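import Groth.Agent.CplFlat.Noetherian
import Mathlib.RingTheory.AdicCompletion.AsTensorProduct
import Mathlib.RingTheory.AdicCompletion.LocalRing
import Mathlib.RingTheory.AdicCompletion.RingHom
import Mathlib.RingTheory.Flat.FaithfullyFlat.Algebra
import Mathlib.RingTheory.Flat.Localization
import Mathlib.RingTheory.Ideal.AssociatedPrime.Finiteness
import Mathlib.RingTheory.Localization.AtPrime.Basic
import Mathlib.RingTheory.Localization.BaseChange

/-!
# A finite module is the limit of its base changes to complete local flat algebras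
-/

set_option autoImplicit false
universe u

open TensorProduct IsLocalRing

namespace Groth.Agent.ComplFamily

/-- The completion of a local ring. -/
abbrev Bc (S : Type u) [CommRing S] [IsLocalRing S] : Type u := AdicCompletion (maximalIdeal S) S

instance isNoetherianRing_Bc (S : Type u) [CommRing S] [IsLocalRing S] [IsNoetherianRing S] :
    IsNoetherianRing (Bc S) :=
  haveI : IsNoetherianRing (S ⧸ maximalIdeal S) :=
    isNoetherianRing_of_surjective S _ (Ideal.Quotient.mk _) Ideal.Quotient.mk_surjective
  CplFlat.isNoetherianRing_completion_of_fg (maximalIdeal S) (maximalIdeal S).fg_of_isNoetherianRing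

variable (A : Type u) [CommRing A]

lemma flat_Bc (S : Type u) [CommRing S] [IsLocalRing S] [IsNoetherianRing S] [Algebra A S]
    [Module.Flat A S] : Module.Flat A (Bc S) :=
  Module.Flat.trans A S (Bc S)

lemma faithfullyFlat_Bc (S : Type u) [CommRing S] [IsLocalRing S] [IsNoetherianRing S] :
    Module.FaithfullyFlat S (Bc S) :=
  Module.FaithfullyFlat.of_flat_of_isLocalHom

section lift

variable {A}

variable {S T : Type u} [CommRing S] [IsLocalRing S] [CommRing T] [IsLocalRing T] [Algebra A S] [Algebra A T]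
  [IsAdicComplete (maximalIdeal T) T]

/-- A local homomorphism into a complete local ring extends to the completion. -/
noncomputable def lift (φ : S →ₐ[A] T) [IsLocalHom φ.toRingHom] : Bc S →ₐ[A] T :=
  IsAdicComplete.liftAlgHom (maximalIdeal T)
    (fun n => (Ideal.quotientMapₐ (maximalIdeal T ^ n) φ
      ((Ideal.pow_right_mono (le_of_eq (maximalIdeal_comap φ.toRingHom).symm) n).trans
        (Ideal.le_comap_pow φ n))).comp ((AdicCompletion.evalₐ (maximalIdeal S) n).restrictScalars A))
    (fun {m n} hle => by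
      ext x
      obtain ⟨a, rfl⟩ := AdicCompletion.mk_surjective _ _ x
      simp only [AlgHom.comp_apply, AlgHom.restrictScalars_apply, AdicCompletion.evalₐ_mk]
      change Ideal.Quotient.mk _ (φ (a n)) = Ideal.Quotient.mk _ (φ (a m))
      rw [Ideal.Quotient.eq, ← map_sub]
      have h1 : a n - a m ∈ maximalIdeal S ^ m := by
        have := (AdicCompletion.AdicCauchySequence.mk_eq_mk (I := maximalIdeal S) hle a)
        rw [← Ideal.Quotient.eq]
        simpa using congrArg (Submodule.factor (le_of_eq (Ideal.mul_top (maximalIdeal S ^ m)))) this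
      exact ((Ideal.pow_right_mono (le_of_eq (maximalIdeal_comap φ.toRingHom).symm) m).trans
        (Ideal.le_comap_pow φ m)) h1)

end lift

variable {A} [IsNoetherianRing A]

lemma exists_smul_eq_zero_of_tmul_eq_zero (q : Ideal A) [q.IsPrime] {W : Type u} [AddCommGroup W]
    [Module A W] (d : W) (h : (1 : Bc (Localization.AtPrime q)) ⊗ₜ[A] d = 0) :
    ∃ u, u ∉ q ∧ u • d = 0 := by
  haveI := faithfullyFlat_Bc (Localization.AtPrime q)
  have h2 : (1 : Bc (Localization.AtPrime q)) ⊗ₜ[Localization.AtPrime q]
      ((1 : Localization.AtPrime q) ⊗ₜ[A] d) = 0 := by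
    apply (AlgebraTensorModule.cancelBaseChange A (Localization.AtPrime q) (Localization.AtPrime q)
      (Bc (Localization.AtPrime q)) W).injective
    rw [map_zero, AlgebraTensorModule.cancelBaseChange_tmul, one_smul]
    exact h
  have h3 : (1 : Localization.AtPrime q) ⊗ₜ[A] d = 0 :=
    Module.FaithfullyFlat.tensorProduct_mk_injective (A := Localization.AtPrime q)
      (B := Bc (Localization.AtPrime q)) (Localization.AtPrime q ⊗[A] W) (by rw [map_zero]; exact h2)
  haveI : IsLocalizedModule q.primeCompl (TensorProduct.mk A (Localization.AtPrime q) W 1) :=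
    (isLocalizedModule_iff_isBaseChange q.primeCompl (Localization.AtPrime q) _).2
      (TensorProduct.isBaseChange A W (Localization.AtPrime q))
  obtain ⟨u, hu⟩ := (IsLocalizedModule.eq_zero_iff q.primeCompl (TensorProduct.mk A (Localization.AtPrime q) W 1)).1 h3
  exact ⟨u, u.2, hu⟩

variable (A)

/-- Families over all complete local flat algebras. -/
abbrev Fam (M : Type u) [AddCommGroup M] [Module A M] :=
  ∀ (B : Type u) [CommRing B] [Algebra A B] [IsNoetherianRing B] [IsLocalRing B],
    IsAdicComplete (maximalIdeal B) B → Module.Flat A B → B ⊗[A] M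

variable {A}

/-- Compatibility of a family. -/
def Compat {M : Type u} [AddCommGroup M] [Module A M] (x : Fam A M) : Prop :=
  ∀ (B : Type u) [CommRing B] [Algebra A B] [IsNoetherianRing B] [IsLocalRing B]
    (hB : IsAdicComplete (maximalIdeal B) B) (hBf : Module.Flat A B)
    (B' : Type u) [CommRing B'] [Algebra A B'] [IsNoetherianRing B'] [IsLocalRing B']
    (hB' : IsAdicComplete (maximalIdeal B') B') (hB'f : Module.Flat A B') (g : B →ₐ[A] B'),
    LinearMap.rTensor M g.toLinearMap (x B hB hBf) = x B' hB' hB'f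

/-- `m` represents `x`. -/
def Rep {M : Type u} [AddCommGroup M] [Module A M] (x : Fam A M) (m : M) : Prop :=
  ∀ (B : Type u) [CommRing B] [Algebra A B] [IsNoetherianRing B] [IsLocalRing B]
    (hB : IsAdicComplete (maximalIdeal B) B) (hBf : Module.Flat A B), x B hB hBf = (1 : B) ⊗ₜ[A] m

lemma rep_unique {M : Type u} [AddCommGroup M] [Module A M] {x : Fam A M} {m m' : M}
    (h : Rep x m) (h' : Rep x m') : m = m' := by
  by_contra hne
  have hd : m - m' ≠ 0 := sub_ne_zero.2 hne
  obtain ⟨q, hq, hle⟩ := Ideal.exists_le_maximal (LinearMap.ker (LinearMap.toSpanSingleton A M (m - m')))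
    (fun htop => hd (by
      have : (1 : A) ∈ LinearMap.ker (LinearMap.toSpanSingleton A M (m - m')) := htop ▸ Submodule.mem_top
      simpa using this))
  have hf : Module.Flat A (Bc (Localization.AtPrime q)) := flat_Bc A _
  have := (h (Bc (Localization.AtPrime q)) inferInstance hf).symm.trans (h' _ inferInstance hf)
  obtain ⟨u, hu, hu0⟩ := exists_smul_eq_zero_of_tmul_eq_zero q (m - m') (by rw [tmul_sub, this, sub_self])
  exact hu (hle (by simpa using hu0))

lemma tmul_eq_zero_of_mem_map {B : Type u} [CommRing B] [Algebra A B] {N : Type u} [AddCommGroup N]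
    [Module A N] {p : Ideal A} {z : N} (hz : ∀ a ∈ p, a • z = 0) {b : B}
    (hb : b ∈ p.map (algebraMap A B)) : b ⊗ₜ[A] z = 0 := by
  induction hb using Submodule.span_induction with
  | mem b hb =>
    obtain ⟨a, ha, rfl⟩ := hb
    rw [Algebra.algebraMap_eq_smul_one, smul_tmul, hz a ha, tmul_zero]
  | zero => exact zero_tmul _ _
  | add b c _ _ h1 h2 => rw [add_tmul, h1, h2, add_zero]
  | smul c b _ h =>
    have : (c • b) ⊗ₜ[A] z = c • (b ⊗ₜ[A] z) := (smul_tmul' c b z).symm
    rw [this, h, smul_zero]

theorem exists_rep_quotient {N : Type u} [AddCommGroup N] [Module A N] [Module.Finite A N]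
    (p : Ideal A) [p.IsPrime] (e : N ≃ₗ[A] A ⧸ p) (x : Fam A N) (hx : Compat x) :
    ∃ m, Rep x m := by
  let g₀ : N := e.symm 1
  have hcyc : ∀ y : N, ∃ a : A, y = a • g₀ := fun y => by
    obtain ⟨a, ha⟩ := Ideal.Quotient.mk_surjective (e y)
    refine ⟨a, e.injective ?_⟩
    rw [map_smul, LinearEquiv.apply_symm_apply, ← ha, Algebra.smul_def, mul_one]
    rfl
  have hpz : ∀ a ∈ p, ∀ y : N, a • y = 0 := fun a ha y => e.injective (by
    obtain ⟨c, hc⟩ := Ideal.Quotient.mk_surjective (e y)
    rw [map_smul, map_zero, ← hc]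
    exact (Submodule.Quotient.mk_eq_zero _).2 (p.mul_mem_right c ha))
  have hinj : ∀ t, t ∉ p → Function.Injective (fun y : N => t • y) := fun t ht y z h => e.injective (by
    have h' := congrArg e h
    simp only [map_smul] at h'
    obtain ⟨c, hc⟩ := Ideal.Quotient.mk_surjective (e y)
    obtain ⟨d, hd⟩ := Ideal.Quotient.mk_surjective (e z)
    rw [← hc, ← hd] at h' ⊢
    rw [← sub_eq_zero, ← smul_sub, ← map_sub] at h'
    rw [Ideal.Quotient.eq]
    have h'' : t * (c - d) ∈ p := (Submodule.Quotient.mk_eq_zero p).1 h'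
    exact (Ideal.IsPrime.mem_or_mem ‹p.IsPrime› h'').resolve_left ht)
  have hinjT : ∀ t, t ∉ p → ∀ (B : Type u) [CommRing B] [Algebra A B] [Module.Flat A B],
      Function.Injective (fun y : B ⊗[A] N => t • y) := fun t ht B _ _ _ => by
    have h1 : Function.Injective (LinearMap.lTensor B (t • (LinearMap.id : N →ₗ[A] N))) :=
      Module.Flat.lTensor_preserves_injective_linearMap _ (hinj t ht)
    rwa [LinearMap.lTensor_smul, LinearMap.lTensor_id] at h1
  -- the generic value
  have hfp : Module.Flat A (Bc (Localization.AtPrime p)) := flat_Bc A _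
  obtain ⟨s, hs, n, hn⟩ : ∃ s, s ∉ p ∧ ∃ n : N,
      s • x (Bc (Localization.AtPrime p)) inferInstance hfp = (1 : Bc (Localization.AtPrime p)) ⊗ₜ[A] n := by
    obtain ⟨b, hb⟩ : ∃ b, x (Bc (Localization.AtPrime p)) inferInstance hfp = b ⊗ₜ[A] g₀ := by
      generalize x (Bc (Localization.AtPrime p)) inferInstance hfp = w
      induction w using TensorProduct.induction_on with
      | zero => exact ⟨0, (zero_tmul _ _).symm⟩
      | tmul b y =>
        obtain ⟨a, rfl⟩ := hcyc y
        exact ⟨a • b, (smul_tmul a b g₀).symm⟩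
      | add y z hy hz =>
        obtain ⟨b, rfl⟩ := hy
        obtain ⟨c, rfl⟩ := hz
        exact ⟨b + c, (add_tmul _ _ _).symm⟩
    obtain ⟨r, hr⟩ := Submodule.Quotient.mk_surjective _ (b.1 1)
    have hbr : b - algebraMap (Localization.AtPrime p) (Bc (Localization.AtPrime p)) r ∈
        maximalIdeal (Bc (Localization.AtPrime p)) := by
      rw [AdicCompletion.mem_maximalIdeal_iff_eval_one_eq_zero, AdicCompletion.val_sub_apply, ← hr, sub_eq_zero]
      rfl
    obtain ⟨⟨a, s⟩, has⟩ := IsLocalization.surj p.primeCompl r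
    refine ⟨s, s.2, a • g₀, ?_⟩
    rw [hb, ← sub_eq_zero, tmul_smul, smul_tmul', smul_tmul', ← sub_tmul]
    refine tmul_eq_zero_of_mem_map (fun c hc => hpz c hc g₀) ?_
    have hmax : maximalIdeal (Bc (Localization.AtPrime p)) =
        p.map (algebraMap A (Bc (Localization.AtPrime p))) := by
      refine AdicCompletion.maximalIdeal_eq_map.trans ?_
      refine (congrArg (Ideal.map _) Localization.AtPrime.map_eq_maximalIdeal.symm).trans ?_
      rw [Ideal.map_map, ← IsScalarTower.algebraMap_eq]
    rw [← hmax]
    have hr' : (s : A) • algebraMap (Localization.AtPrime p) (Bc (Localization.AtPrime p)) r =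
        a • (1 : Bc (Localization.AtPrime p)) := by
      rw [Algebra.smul_def, Algebra.smul_def, mul_one,
        IsScalarTower.algebraMap_apply A (Localization.AtPrime p) (Bc (Localization.AtPrime p)),
        IsScalarTower.algebraMap_apply A (Localization.AtPrime p) (Bc (Localization.AtPrime p)) a,
        ← map_mul, mul_comm, has]
    rw [← hr', ← smul_sub]
    exact Submodule.smul_of_tower_mem _ _ hbr
  -- the key identity
  have key : ∀ (B : Type u) [CommRing B] [Algebra A B] [IsNoetherianRing B] [IsLocalRing B]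
      (hB : IsAdicComplete (maximalIdeal B) B) (hBf : Module.Flat A B),
      s • x B hB hBf = (1 : B) ⊗ₜ[A] n := by
    intro B _ _ _ _ hB hBf
    by_contra hne
    let d : B ⊗[A] N := s • x B hB hBf - (1 : B) ⊗ₜ[A] n
    have hd : d ≠ 0 := sub_ne_zero.2 hne
    obtain ⟨Q, hQ, hle⟩ := exists_le_isAssociatedPrime_of_isNoetherianRing B d hd
    haveI := hQ.isPrime
    obtain ⟨_, z, hz⟩ := isAssociatedPrime_iff.1 hQ
    have hQmem : ∀ c : B, c ∈ Q ↔ c • z = 0 := fun c => by rw [hz]; simp [Submodule.mem_colon_singleton]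
    have hcomap : Q.comap (algebraMap A B) = p := by
      ext t
      rw [Ideal.mem_comap, hQmem, algebraMap_smul]
      constructor
      · intro ht
        by_contra htp
        have hz0 : z = 0 := hinjT t htp B (ht.trans (smul_zero t).symm)
        exact ‹Q.IsPrime›.ne_top ((Ideal.eq_top_iff_one Q).2 ((hQmem 1).2 (by rw [hz0, smul_zero])))
      · intro ht
        clear hz hQmem
        induction z using TensorProduct.induction_on with
        | zero => exact smul_zero _
        | tmul b y => rw [← tmul_smul, hpz t ht, tmul_zero]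
        | add y z hy hz => rw [smul_add, hy, hz, add_zero]
    haveI : Module.Flat A (Localization.AtPrime Q) := Module.Flat.trans A B _
    have hf' : Module.Flat A (Bc (Localization.AtPrime Q)) := flat_Bc A _
    let g₁ : B →ₐ[A] Bc (Localization.AtPrime Q) := IsScalarTower.toAlgHom A B _
    let φ : Localization.AtPrime p →+* Localization.AtPrime Q :=
      Localization.localRingHom p Q (algebraMap A B) hcomap.symm
    let ψ : Localization.AtPrime p →ₐ[A] Bc (Localization.AtPrime Q) :=
      { toRingHom := (algebraMap (Localization.AtPrime Q) (Bc (Localization.AtPrime Q))).comp φ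
        commutes' := fun a => by
          change algebraMap _ _ (φ (algebraMap A _ a)) = _
          rw [Localization.localRingHom_to_map]
          rfl }
    haveI : IsLocalHom ψ.toRingHom :=
      RingHom.isLocalHom_comp (algebraMap (Localization.AtPrime Q) (Bc (Localization.AtPrime Q))) φ
    have h1 := hx B hB hBf _ inferInstance hf' g₁
    have h2 := hx (Bc (Localization.AtPrime p)) inferInstance hfp _ inferInstance hf' (lift ψ)
    have h3 : LinearMap.rTensor N g₁.toLinearMap d = 0 := by
      have h4 := congrArg (LinearMap.rTensor N (lift ψ).toLinearMap) hn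
      rw [map_smul, h2, LinearMap.rTensor_tmul, AlgHom.toLinearMap_apply, map_one] at h4
      rw [map_sub, map_smul, h1, h4, LinearMap.rTensor_tmul, AlgHom.toLinearMap_apply, map_one, sub_self]
    have hid : ∀ w : B ⊗[A] N, AlgebraTensorModule.cancelBaseChange A B B (Bc (Localization.AtPrime Q)) N
        ((1 : Bc (Localization.AtPrime Q)) ⊗ₜ[B] w) = LinearMap.rTensor N g₁.toLinearMap w := fun w => by
      induction w using TensorProduct.induction_on with
      | zero => rw [tmul_zero, map_zero, map_zero]
      | tmul b y =>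
        rw [AlgebraTensorModule.cancelBaseChange_tmul, LinearMap.rTensor_tmul, Algebra.smul_def, mul_one]
        rfl
      | add y z hy hz => rw [tmul_add, map_add, map_add, hy, hz]
    obtain ⟨u, hu, hu0⟩ := exists_smul_eq_zero_of_tmul_eq_zero (A := B) Q d
      ((AlgebraTensorModule.cancelBaseChange A B B (Bc (Localization.AtPrime Q)) N).injective
        (by rw [hid, h3, map_zero]))
    exact hu (hle (Submodule.mem_colon_singleton.2 (by simpa using hu0)))
  -- `n` is divisible by `s`
  obtain ⟨m, rfl⟩ : ∃ m, n = s • m := by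
    let W := LinearMap.range (s • (LinearMap.id : N →ₗ[A] N))
    by_contra hne
    obtain ⟨q, hq, hle⟩ := Ideal.exists_le_maximal
      (LinearMap.ker (LinearMap.toSpanSingleton A (N ⧸ W) (W.mkQ n))) (fun htop => hne (by
        have h1 : (1 : A) ∈ LinearMap.ker (LinearMap.toSpanSingleton A (N ⧸ W) (W.mkQ n)) := htop ▸ Submodule.mem_top
        obtain ⟨m, hm⟩ := (Submodule.Quotient.mk_eq_zero W).1 (by simpa using h1)
        exact ⟨m, hm.symm⟩))
    have hfq : Module.Flat A (Bc (Localization.AtPrime q)) := flat_Bc A _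
    have h1 := congrArg (LinearMap.lTensor (Bc (Localization.AtPrime q)) W.mkQ)
      (key (Bc (Localization.AtPrime q)) inferInstance hfq)
    rw [LinearMap.lTensor_tmul] at h1
    have h2 : ∀ w : Bc (Localization.AtPrime q) ⊗[A] N,
        LinearMap.lTensor (Bc (Localization.AtPrime q)) W.mkQ (s • w) = 0 := fun w => by
      induction w using TensorProduct.induction_on with
      | zero => rw [smul_zero, map_zero]
      | tmul b y =>
        rw [← tmul_smul, LinearMap.lTensor_tmul,
          show W.mkQ (s • y) = 0 from (Submodule.Quotient.mk_eq_zero W).2 ⟨y, rfl⟩, tmul_zero]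
      | add y z hy hz => rw [smul_add, map_add, hy, hz, add_zero]
    obtain ⟨u, hu, hu0⟩ := exists_smul_eq_zero_of_tmul_eq_zero q (W.mkQ n) (h1.symm.trans (h2 _))
    exact hu (hle (by simpa using hu0))
  exact ⟨m, fun B _ _ _ _ hB hBf => hinjT s hs B ((key B hB hBf).trans (tmul_smul _ _ _))⟩

theorem exists_rep_exact {N₁ N₂ N₃ : Type u} [AddCommGroup N₁] [Module A N₁] [AddCommGroup N₂] [Module A N₂]
    [AddCommGroup N₃] [Module A N₃] (f : N₁ →ₗ[A] N₂) (g : N₂ →ₗ[A] N₃) (hf : Function.Injective f)
    (hg : Function.Surjective g) (hfg : Function.Exact f g)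
    (h₁ : ∀ x : Fam A N₁, Compat x → ∃ m, Rep x m) (h₃ : ∀ x : Fam A N₃, Compat x → ∃ m, Rep x m)
    (x : Fam A N₂) (hx : Compat x) : ∃ m, Rep x m := by
  obtain ⟨m₃, hm₃⟩ := h₃ (fun B _ _ _ _ hB hBf => LinearMap.lTensor B g (x B hB hBf))
    (fun B _ _ _ _ hB hBf B' _ _ _ _ hB' hB'f φ => by
      rw [← LinearMap.comp_apply, LinearMap.rTensor_comp_lTensor, ← LinearMap.lTensor_comp_rTensor,
        LinearMap.comp_apply, hx B hB hBf B' hB' hB'f φ])
  obtain ⟨n₂, rfl⟩ := hg m₃
  have hex : ∀ (B : Type u) [CommRing B] [Algebra A B] [IsNoetherianRing B] [IsLocalRing B]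
      (hB : IsAdicComplete (maximalIdeal B) B) (hBf : Module.Flat A B),
      ∃ y, LinearMap.lTensor B f y = x B hB hBf - (1 : B) ⊗ₜ[A] n₂ := fun B _ _ _ _ hB hBf =>
    (lTensor_exact B hfg hg _).1 (by
      have h : LinearMap.lTensor B g (x B hB hBf) = (1 : B) ⊗ₜ[A] g n₂ := hm₃ B hB hBf
      rw [map_sub, h, LinearMap.lTensor_tmul, sub_self])
  obtain ⟨m₁, hm₁⟩ := h₁ (fun B _ _ _ _ hB hBf => (hex B hB hBf).choose)
    (fun B _ _ _ _ hB hBf B' _ _ _ _ hB' hB'f φ => by
      apply Module.Flat.lTensor_preserves_injective_linearMap (M := B') f hf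
      rw [← LinearMap.comp_apply, LinearMap.lTensor_comp_rTensor, ← LinearMap.rTensor_comp_lTensor,
        LinearMap.comp_apply, (hex B hB hBf).choose_spec, (hex B' hB' hB'f).choose_spec, map_sub,
        hx B hB hBf B' hB' hB'f φ, LinearMap.rTensor_tmul, AlgHom.toLinearMap_apply, map_one])
  refine ⟨n₂ + f m₁, fun B _ _ _ _ hB hBf => ?_⟩
  have := (hex B hB hBf).choose_spec
  rw [show (hex B hB hBf).choose = _ from hm₁ B hB hBf, LinearMap.lTensor_tmul] at this
  rw [tmul_add, this, add_sub_cancel]

theorem exists_rep {M : Type u} [AddCommGroup M] [Module A M] (hM : Module.Finite A M) :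
    ∀ x : Fam A M, Compat x → ∃ m, Rep x m := by
  induction hM using IsNoetherianRing.induction_on_isQuotientEquivQuotientPrime A with
  | subsingleton N =>
    intro x _
    refine ⟨0, fun B _ _ _ _ hB hBf => ?_⟩
    generalize x B hB hBf = w
    induction w using TensorProduct.induction_on with
    | zero => exact (tmul_zero _ _).symm
    | tmul b y => rw [Subsingleton.elim y 0, tmul_zero, tmul_zero]
    | add y z hy hz => rw [hy, hz, tmul_zero, add_zero]
  | quotient N p e => exact exists_rep_quotient p.1 e
  | exact N₁ N₂ N₃ f g hf hg hfg h₁ h₃ => exact exists_rep_exact f g hf hg hfg h₁ h₃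

end Groth.Agent.ComplFamily
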